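import Mathlib.RingTheory.PicardGroup
import Mathlib.RingTheory.Polynomial.IsIntegral
import Mathlib.RingTheory.LocalRing.ResidueField.Ideal
import Mathlib.Algebra.Polynomial.Reverse
import Groth.Agent.H24.PicLaurent.Dense

/-!
# Coordinates of an invertible `R[X]`-module over an `R`-algebra

A coordinate along `f : R →+* T` normalised at `y0` is a semilinear map `θ : M → T[X]` whose values
generate the unit ideal and such that `θ y0` has constant coefficient one.
-/

universe u v

open Polynomial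
open scoped TensorProduct

namespace Groth.Agent.H24.Swan

variable {R : Type u} [CommRing R] {M : Type u} [AddCommGroup M] [Module R[X] M]

/-- A normalised coordinate. -/
structure IsCoord {T : Type v} [CommRing T] {f : R →+* T} (y0 : M)
    (θ : M →ₛₗ[mapRingHom f] T[X]) : Prop where
  const : (θ y0).coeff 0 = 1
  unimodular : Ideal.span (Set.range θ) = ⊤

section Basic

variable {T : Type v} [CommRing T] {f : R →+* T}

theorem eq_zero_of_mul {u : T[X]} (hu : u.coeff 0 = 1) {g : T[X]} (h : u * g = 0) : g = 0 := by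
  refine Polynomial.ext fun n => ?_
  induction n using Nat.strong_induction_on with
  | _ n ih =>
    have := congrArg (fun p : T[X] => p.coeff n) h
    simp only [coeff_mul, coeff_zero] at this
    rw [Finset.sum_eq_single (0, n)] at this
    · simpa [hu] using this
    · rintro ⟨a, b⟩ hab hne
      rw [Finset.mem_antidiagonal] at hab
      have hb : b < n := by
        rcases Nat.eq_zero_or_pos a with rfl | ha
        · exact absurd (by simpa using hab) hne
        · omega
      show u.coeff a * g.coeff b = 0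
      rw [ih b hb, coeff_zero, mul_zero]
    · intro hh; exact absurd (by simp) hh

theorem eq_of_mul {u : T[X]} (hu : u.coeff 0 = 1) {g g' : T[X]} (h : u * g = u * g') : g = g' :=
  sub_eq_zero.mp (eq_zero_of_mul hu (by rw [mul_sub, h, sub_self]))

/-- Division by a polynomial with constant coefficient one does not enlarge coefficient rings. -/
theorem coeff_mem_of_mul {S : Subring T} {u g v : T[X]} (hu0 : u.coeff 0 = 1) (hu : ∀ n, u.coeff n ∈ S)
    (hv : ∀ n, v.coeff n ∈ S) (h : u * g = v) (n : ℕ) : g.coeff n ∈ S := by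
  induction n using Nat.strong_induction_on with
  | _ n ih =>
    have hn := congrArg (fun p : T[X] => p.coeff n) h
    simp only [coeff_mul] at hn
    rw [← Finset.add_sum_erase _ _ (show (0, n) ∈ Finset.HasAntidiagonal.antidiagonal n by simp),
      hu0, one_mul, ← eq_sub_iff_add_eq] at hn
    rw [hn]
    refine sub_mem (hv n) (sum_mem fun x hx => mul_mem (hu _) (ih _ ?_))
    obtain ⟨hne, hab⟩ := Finset.mem_erase.mp hx
    rw [Finset.mem_antidiagonal] at hab
    rcases Nat.eq_zero_or_pos x.1 with h0 | h0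
    · exact absurd (Prod.ext h0 (by simpa [h0] using hab)) hne
    · omega

variable [Module.Invertible R[X] M]

theorem cross (θ θ' : M →ₛₗ[mapRingHom f] T[X]) (x y : M) : θ x * θ' y = θ y * θ' x := by
  obtain ⟨n, φ, b, hb⟩ := PicLaurent.exists_dual_basis (A := R[X]) M
  have key : ∀ x y, θ x * θ' y =
      ∑ i, ∑ j, (φ i x * φ j y).map f * (θ (b i) * θ' (b j)) := fun x y => by
    conv_lhs => rw [hb x, hb y]
    simp only [map_sum, LinearMap.map_smulₛₗ, Finset.sum_mul, Finset.mul_sum, smul_eq_mul,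
      coe_mapRingHom, Polynomial.map_mul]
    rw [Finset.sum_comm]
    exact Finset.sum_congr rfl fun i _ => Finset.sum_congr rfl fun j _ => by ring
  rw [key x y, key y x]
  refine Finset.sum_congr rfl fun i _ => Finset.sum_congr rfl fun j _ => ?_
  rw [PicLaurent.cross (φ i) (φ j) x y]

/-- Every semilinear map is a multiple of a coordinate. -/
theorem exists_mul_eq {y0 : M} {θ : M →ₛₗ[mapRingHom f] T[X]} (hθ : IsCoord y0 θ)
    (θ' : M →ₛₗ[mapRingHom f] T[X]) : ∃ c, ∀ y, θ' y = c * θ y := by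
  have h : ∀ t ∈ Ideal.span (Set.range θ), ∃ c, ∀ y, t * θ' y = c * θ y := by
    intro t ht
    refine Submodule.span_induction ?_ ⟨0, fun y => by simp⟩ ?_ ?_ ht
    · rintro _ ⟨z, rfl⟩
      exact ⟨θ' z, fun y => by rw [cross θ θ' z y, mul_comm]⟩
    · rintro a b - - ⟨c, hc⟩ ⟨d, hd⟩
      exact ⟨c + d, fun y => by rw [add_mul, hc, hd, add_mul]⟩
    · rintro r a - ⟨c, hc⟩
      exact ⟨r * c, fun y => by rw [smul_eq_mul, mul_assoc, hc, mul_assoc]⟩
  obtain ⟨c, hc⟩ := h 1 (hθ.unimodular.symm ▸ trivial)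
  exact ⟨c, fun y => by rw [← hc, one_mul]⟩

/-- Normalised coordinates over a reduced ring are unique. -/
theorem unique [IsReduced T] {y0 : M} {θ θ' : M →ₛₗ[mapRingHom f] T[X]} (hθ : IsCoord y0 θ)
    (hθ' : IsCoord y0 θ') (y : M) : θ y = θ' y := by
  obtain ⟨c, hc⟩ := exists_mul_eq hθ θ'
  obtain ⟨d, hd⟩ := exists_mul_eq hθ' θ
  have h1 : d * c = 1 := eq_of_mul hθ.const (by
    rw [mul_one, mul_comm, mul_assoc, ← hc, ← hd])
  obtain ⟨hc0, hcn⟩ := Polynomial.isUnit_iff_coeff_isUnit_isNilpotent.mp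
    (IsUnit.of_mul_eq_one d ((mul_comm c d).trans h1))
  have hcC : c = C (c.coeff 0) := Polynomial.ext fun n => by
    rcases eq_or_ne n 0 with rfl | hn
    · rw [coeff_C_zero]
    · rw [coeff_C, if_neg hn, (hcn n hn).eq_zero]
  have h2 := congrArg (fun p : T[X] => p.coeff 0) (hc y0)
  simp only [mul_coeff_zero, hθ.const, hθ'.const, mul_one] at h2
  rw [hc, hcC, ← h2, C_1, one_mul]

end Basic

section Field

variable [Module.Invertible R[X] M] {k : Type u} [Field k] (f : R →+* k)

/-- Coordinates exist over fields. -/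
theorem exists_coord_field {y0 : M} {ψ : Module.Dual R[X] M} (hψ : (ψ y0).coeff 0 = 1) :
    ∃ θ : M →ₛₗ[mapRingHom f] k[X], IsCoord y0 θ := by
  let : Algebra R[X] k[X] := (mapRingHom f).toAlgebra
  have : Module.Free k[X] (k[X] ⊗[R[X]] M) := inferInstance
  obtain ⟨e⟩ := Module.Invertible.free_iff_linearEquiv.mp this
  let θ0 : M →ₛₗ[mapRingHom f] k[X] :=
    { toFun := fun y => e (1 ⊗ₜ y)
      map_add' := fun y z => by rw [TensorProduct.tmul_add, map_add]
      map_smul' := fun p y => by
        rw [TensorProduct.tmul_smul, ← algebraMap_smul k[X] p ((1 : k[X]) ⊗ₜ[R[X]] y), map_smul]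
        rfl }
  let Ψ : k[X] ⊗[R[X]] M →ₗ[k[X]] k[X] :=
    TensorProduct.AlgebraTensorModule.rid R[X] k[X] k[X] ∘ₗ ψ.baseChange k[X]
  set b := Ψ (e.symm 1)
  have hb : (ψ y0).map f = b * θ0 y0 := by
    calc (ψ y0).map f = Ψ (1 ⊗ₜ y0) := by
          simp [Ψ, Algebra.smul_def, RingHom.algebraMap_toAlgebra]
      _ = Ψ (θ0 y0 • e.symm 1) := by
          rw [← map_smul, smul_eq_mul, mul_one]
          exact congrArg Ψ (e.symm_apply_apply _).symm
      _ = b * θ0 y0 := by rw [map_smul, smul_eq_mul, mul_comm]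
  have h1 : b.coeff 0 * (θ0 y0).coeff 0 = 1 := by
    rw [← mul_coeff_zero, ← hb, coeff_map, hψ, map_one]
  refine ⟨C (b.coeff 0) • θ0, ⟨?_, ?_⟩⟩
  · rw [LinearMap.smul_apply, smul_eq_mul, coeff_C_mul, h1]
  · have hu : IsUnit (C (b.coeff 0)) := (IsUnit.of_mul_eq_one _ h1).map C
    rw [eq_top_iff]
    intro z _
    obtain ⟨w, hw⟩ : ∃ w, e w = z := ⟨e.symm z, e.apply_symm_apply z⟩
    rw [← hw]
    clear hw
    induction w using TensorProduct.induction_on with
    | zero => rw [map_zero]; exact zero_mem _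
    | add a a' ha ha' => rw [map_add]; exact add_mem ha ha'
    | tmul l y =>
      rw [show l ⊗ₜ[R[X]] y = l • ((1 : k[X]) ⊗ₜ[R[X]] y) by
        rw [TensorProduct.smul_tmul', smul_eq_mul, mul_one], map_smul, smul_eq_mul]
      refine Ideal.mul_mem_left _ _ ((Ideal.unit_mul_mem_iff_mem _ hu).mp ?_)
      exact Ideal.subset_span ⟨y, rfl⟩

/-- Values of coordinates over fields have degree bounded by those of a dual basis. -/
theorem natDegree_le {y0 : M} {θ : M →ₛₗ[mapRingHom f] k[X]} (hθ : IsCoord y0 θ) {n : ℕ}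
    {φ : Fin n → Module.Dual R[X] M} {z : Fin n → M} (hy : ∀ x, x = ∑ i, φ i x • z i) (y : M) :
    (θ y).natDegree ≤ Finset.univ.sup fun i => (φ i y).natDegree := by
  by_cases hy0 : θ y = 0
  · simp [hy0]
  obtain ⟨i, hi⟩ : ∃ i, (φ i y).map f ≠ 0 := by
    by_contra hne
    push Not at hne
    refine hy0 ?_
    conv_lhs => rw [hy y]
    rw [map_sum]
    exact Finset.sum_eq_zero fun i _ => by
      rw [LinearMap.map_smulₛₗ, coe_mapRingHom, hne, zero_smul]
  let φ' : M →ₛₗ[mapRingHom f] k[X] :=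
    { toFun := fun y => (φ i y).map f
      map_add' := fun y z => by rw [map_add, Polynomial.map_add]
      map_smul' := fun p y => by rw [map_smul, smul_eq_mul, Polynomial.map_mul]; rfl }
  obtain ⟨c, hc⟩ := exists_mul_eq hθ φ'
  calc (θ y).natDegree ≤ ((φ i y).map f).natDegree := by
        refine natDegree_le_of_dvd ⟨c, ?_⟩ hi
        rw [show (φ i y).map f = φ' y from rfl, hc, mul_comm]
    _ ≤ (φ i y).natDegree := natDegree_map_le
    _ ≤ _ := Finset.le_sup (f := fun i => (φ i y).natDegree) (Finset.mem_univ i)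

end Field

end Groth.Agent.H24.Swan
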