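import Groth.Agent.H24.Swan.Coord

/-!
# A coordinate with coefficients in a finite extension

Over a reduced ring the coordinates at all primes glue to a coordinate with coefficients in a finite
subalgebra of the product of the residue fields.
-/

universe u

open Polynomial
open scoped TensorProduct

namespace Groth.Agent.H24.Swan

variable {R : Type u} [CommRing R]

/-- The product of all residue fields. -/
abbrev KK (R : Type u) [CommRing R] : Type u := ∀ p : PrimeSpectrum R, p.asIdeal.ResidueField

theorem algebraMap_KK_injective [IsReduced R] : Function.Injective (algebraMap R (KK R)) := by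
  refine (injective_iff_map_eq_zero _).mpr fun r hr => ?_
  refine IsNilpotent.eq_zero ?_
  rw [nilpotent_iff_mem_prime]
  intro J hJ
  exact Ideal.algebraMap_residueField_eq_zero.mp (congrFun hr ⟨J, hJ⟩)

theorem ext_KK {p q : (KK R)[X]}
    (h : ∀ P : PrimeSpectrum R, p.map (Pi.evalRingHom _ P) = q.map (Pi.evalRingHom _ P)) : p = q :=
  Polynomial.ext fun n => funext fun P => by
    simpa [coeff_map] using congrArg (fun f => f.coeff n) (h P)

/-- A family of polynomials of bounded degree as a polynomial over the product. -/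
theorem exists_glue (g : ∀ P : PrimeSpectrum R, P.asIdeal.ResidueField[X]) (N : ℕ)
    (h : ∀ P, (g P).natDegree ≤ N) : ∃ G : (KK R)[X], ∀ P, G.map (Pi.evalRingHom _ P) = g P := by
  refine ⟨∑ n ∈ Finset.range (N + 1), monomial n (fun P => (g P).coeff n), fun P => ?_⟩
  rw [Polynomial.map_sum]
  conv_rhs => rw [(g P).as_sum_range' (N + 1) (Nat.lt_succ_of_le (h P))]
  exact Finset.sum_congr rfl fun n _ => by rw [map_monomial]; rfl

variable {M : Type u} [AddCommGroup M] [Module R[X] M] [Module.Invertible R[X] M]

/-- A coordinate with coefficients in a finite subalgebra of the product of residue fields. -/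
theorem exists_coord [IsReduced R] {y0 : M} {ψ : Module.Dual R[X] M} (hψ : (ψ y0).coeff 0 = 1) :
    ∃ S : Subalgebra R (KK R), Module.Finite R S ∧
      ∃ θ : M →ₛₗ[mapRingHom (algebraMap R S)] S[X], IsCoord y0 θ ∧
        Algebra.adjoin R (Set.range fun q : M × ℕ => (θ q.1).coeff q.2) = ⊤ := by
  classical
  set ι := algebraMap R (KK R)
  let ιP : ∀ P : PrimeSpectrum R, R →+* P.asIdeal.ResidueField := fun P => algebraMap _ _
  have hev : ∀ (P : PrimeSpectrum R) (p : R[X]),
      (p.map ι).map (Pi.evalRingHom _ P) = p.map (ιP P) := fun P p => by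
    rw [Polynomial.map_map]; rfl
  choose θp hθp using fun P => exists_coord_field (ιP P) (M := M) hψ
  obtain ⟨n, φ, z, hz⟩ := PicLaurent.exists_dual_basis (A := R[X]) M
  choose G hG using fun y : M => exists_glue (fun P => θp P y)
    (Finset.univ.sup fun i => (φ i y).natDegree) (fun P => natDegree_le (ιP P) (hθp P) hz y)
  let θ : M →ₛₗ[mapRingHom ι] (KK R)[X] :=
    { toFun := G
      map_add' := fun a b => ext_KK fun P => by rw [Polynomial.map_add, hG, hG, hG, map_add]
      map_smul' := fun p a => ext_KK fun P => by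
        rw [hG, smul_eq_mul, Polynomial.map_mul, hG, coe_mapRingHom, hev, LinearMap.map_smulₛₗ]
        rfl }
  have hθP : ∀ P y, (θ y).map (Pi.evalRingHom _ P) = θp P y := fun P y => hG y P
  have hconst : (θ y0).coeff 0 = 1 := funext fun P => by
    have := congrArg (fun f => f.coeff 0) (hθP P y0)
    simp only [coeff_map, (hθp P).const] at this
    exact this
  let S : Subalgebra R (KK R) := Algebra.adjoin R ((θ y0).coeffs : Set (KK R))
  have hS0 : ∀ i, (θ y0).coeff i ∈ S := fun i => by
    by_cases h : (θ y0).coeff i = 0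
    · rw [h]; exact zero_mem S
    · exact Algebra.subset_adjoin (coeff_mem_coeffs h)
  let φι : Module.Dual R[X] M → (M →ₛₗ[mapRingHom ι] (KK R)[X]) := fun χ =>
    { toFun := fun y => (χ y).map ι
      map_add' := fun a b => by rw [map_add, Polynomial.map_add]
      map_smul' := fun p a => by rw [map_smul, smul_eq_mul, Polynomial.map_mul]; rfl }
  -- every functional is a multiple of `θ`
  have hmul : ∀ χ : Module.Dual R[X] M, ∃ c : (KK R)[X], ∀ y, (χ y).map ι = c * θ y := by
    intro χ
    have : ∀ P, ∃ c, ∀ y, (χ y).map (ιP P) = c * θp P y := fun P => exists_mul_eq (hθp P)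
      ({ toFun := fun y => (χ y).map (ιP P)
         map_add' := fun a b => by rw [map_add, Polynomial.map_add]
         map_smul' := fun p a => by rw [map_smul, smul_eq_mul, Polynomial.map_mul]; rfl } :
        M →ₛₗ[mapRingHom (ιP P)] _)
    choose c hc using this
    have hd : ∀ P, (c P).natDegree ≤ (χ y0).natDegree := fun P => by
      rcases eq_or_ne (c P) 0 with h0 | h0
      · simp [h0]
      have hne : θp P y0 ≠ 0 := fun h => by simpa [h] using (hθp P).const
      calc (c P).natDegree ≤ ((χ y0).map (ιP P)).natDegree := by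
            rw [hc, natDegree_mul h0 hne]; exact Nat.le_add_right _ _
        _ ≤ _ := natDegree_map_le
    obtain ⟨C', hC'⟩ := exists_glue c _ hd
    exact ⟨C', fun y => ext_KK fun P => by rw [hev, hc, Polynomial.map_mul, hC', hθP]⟩
  have hcS : ∀ (χ : Module.Dual R[X] M) (c : (KK R)[X]), (∀ y, (χ y).map ι = c * θ y) →
      ∀ i, c.coeff i ∈ S := fun χ c hc i =>
    coeff_mem_of_mul (S := S.toSubring) hconst hS0
      (fun j => by rw [coeff_map]; exact S.algebraMap_mem _) ((hc y0).trans (mul_comm _ _)).symm i
  have hθS : ∀ y i, (θ y).coeff i ∈ S := fun y i => by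
    refine coeff_mem_of_mul (S := S.toSubring) (u := (ψ y0).map ι) (v := (ψ y).map ι * θ y0)
      (by rw [coeff_map, hψ, map_one]) (fun j => by rw [coeff_map]; exact S.algebraMap_mem _) ?_ ?_ i
    · intro j
      rw [coeff_mul]
      exact sum_mem fun x _ => mul_mem (by rw [coeff_map]; exact S.algebraMap_mem _) (hS0 _)
    · rw [mul_comm]
      exact (cross θ (φι ψ) y y0).trans (mul_comm _ _)
  -- integrality
  obtain ⟨b, hb⟩ := hmul ψ
  have hfin : Module.Finite R S := by
    refine Algebra.finite_adjoin_of_finite_of_isIntegral (Finset.finite_toSet _) fun x hx => ?_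
    obtain ⟨i, -, rfl⟩ := mem_coeffs_iff.mp hx
    set N := max (θ y0).natDegree ((ψ y0).natDegree) + b.natDegree
    have hNθ : (θ y0).natDegree ≤ N := le_trans (le_max_left _ _) (Nat.le_add_right _ _)
    have hbN : b.natDegree ≤ N := Nat.le_add_left _ _
    have hψN : (ψ y0).natDegree ≤ N + N := le_trans (le_trans (le_max_right _ _) (Nat.le_add_right _ _)) (Nat.le_add_right _ _)
    have hm1 : (reflect (N + N) (ψ y0)).Monic := monic_of_natDegree_le_of_coeff_eq_one (N + N)
      (natDegree_le_iff_coeff_eq_zero.mpr fun j hj => by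
        rw [coeff_reflect, show revAt (N + N) j = j from if_neg (not_le.mpr hj),
          coeff_eq_zero_of_natDegree_lt (lt_of_le_of_lt hψN hj)])
      (by rw [coeff_reflect, revAt_le le_rfl, Nat.sub_self, hψ])
    have hm2 : (reflect N (θ y0)).Monic := monic_of_natDegree_le_of_coeff_eq_one N
      (natDegree_le_iff_coeff_eq_zero.mpr fun j hj => by
        rw [coeff_reflect, show revAt N j = j from if_neg (not_le.mpr hj),
          coeff_eq_zero_of_natDegree_lt (lt_of_le_of_lt hNθ hj)])
      (by rw [coeff_reflect, revAt_le le_rfl, Nat.sub_self, hconst])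
    have hdvd : reflect N (θ y0) ∣ (reflect (N + N) (ψ y0)).map ι := by
      rw [← reflect_map, hb, reflect_mul b (θ y0) hbN hNθ]
      exact dvd_mul_left _ _
    by_cases hi : i ≤ N
    · have := isIntegral_coeff_of_dvd (R := R) (reflect (N + N) (ψ y0)) _ hm1 hm2 hdvd (N - i)
      rwa [coeff_reflect, revAt_le (Nat.sub_le _ _), Nat.sub_sub_self hi] at this
    · rw [coeff_eq_zero_of_natDegree_lt (lt_of_le_of_lt hNθ (not_le.mp hi))]
      exact isIntegral_zero
  refine ⟨S, hfin, ?_⟩
  let inc : S →+* KK R := S.val.toRingHom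
  have hinc : Function.Injective inc := Subtype.val_injective
  have hlift : ∀ q : (KK R)[X], (∀ i, q.coeff i ∈ S) → ∃ q' : S[X], q'.map inc = q := fun q hq =>
    Polynomial.mem_lifts _ |>.mp ((lifts_iff_coeff_lifts q).mpr fun i => ⟨⟨_, hq i⟩, rfl⟩)
  choose T hT using fun y => hlift (θ y) (hθS y)
  have hinj := Polynomial.map_injective inc hinc
  let θS : M →ₛₗ[mapRingHom (algebraMap R S)] S[X] :=
    { toFun := T
      map_add' := fun a b => hinj (by rw [Polynomial.map_add, hT, hT, hT, map_add])
      map_smul' := fun p a => hinj (by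
        rw [hT, smul_eq_mul, Polynomial.map_mul, hT, coe_mapRingHom, Polynomial.map_map,
          LinearMap.map_smulₛₗ, smul_eq_mul]
        rfl) }
  refine ⟨θS, ⟨hinc ?_, ?_⟩, ?_⟩
  · show inc ((T y0).coeff 0) = inc 1
    rw [← coeff_map, hT, map_one, hconst]
  · rw [Ideal.eq_top_iff_one]
    obtain ⟨s, hs⟩ := TensorProduct.exists_finset ((Module.Invertible.linearEquiv R[X] M).symm 1)
    have h1 : (1 : R[X]) = ∑ i ∈ s, i.1 i.2 := by
      rw [← (Module.Invertible.linearEquiv R[X] M).apply_symm_apply 1, hs, map_sum]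
      exact Finset.sum_congr rfl fun i _ => by simp [Module.Invertible.linearEquiv]
    choose c hc using hmul
    choose c' hc' using fun χ => hlift (c χ) (hcS χ _ (hc χ))
    have h2 : (1 : S[X]) = ∑ i ∈ s, c' i.1 * T i.2 := hinj (by
      rw [Polynomial.map_one, Polynomial.map_sum, ← Polynomial.map_one ι, h1, Polynomial.map_sum]
      exact Finset.sum_congr rfl fun i _ => by rw [hc, Polynomial.map_mul, hc', hT])
    rw [h2]
    exact Ideal.sum_mem _ fun i _ => Ideal.mul_mem_left _ _ (Ideal.subset_span ⟨i.2, rfl⟩)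
  · refine eq_top_iff.mpr fun z _ => ?_
    have h3 : S ≤ (Algebra.adjoin R (Set.range fun q : M × ℕ => (θS q.1).coeff q.2)).map S.val := by
      refine Algebra.adjoin_le fun x hx => ?_
      obtain ⟨i, -, rfl⟩ := mem_coeffs_iff.mp hx
      exact ⟨(T y0).coeff i, Algebra.subset_adjoin ⟨(y0, i), rfl⟩, by
        rw [← hT y0, coeff_map]; rfl⟩
    obtain ⟨w, hw, hwz⟩ := h3 z.2
    exact Subtype.ext hwz ▸ hw

end Groth.Agent.H24.Swan
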