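import Groth.Agent.H24.Swan.Product
import Mathlib.RingTheory.Localization.FractionRing
import Mathlib.RingTheory.Ideal.MinimalPrime.Basic
import Groth.Prelude.Def_HTop2

/-!
# Swan's theorem over a seminormal ring (Coquand's proof)
-/

universe u

open Polynomial
open scoped TensorProduct

namespace Groth.Agent.H24.Swan

variable {R : Type u} [CommRing R]

theorem isReduced_of_seminormal (h : HTop.IsSeminormalRing R) : IsReduced R := by
  refine isReduced_iff_pow_one_lt 2 one_lt_two |>.mpr fun x hx => ?_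
  obtain ⟨a, ha, huniq⟩ := h 0 0 (by ring)
  have h0 := huniq 0 ⟨by ring, by ring⟩
  have hx' := huniq x ⟨hx.symm, by rw [pow_succ, hx, zero_mul]⟩
  rw [hx', ← h0]

/-- An element of a reduced extension whose square and cube are in `R` is in `R`. -/
theorem mem_range_of_sq_cube (h : HTop.IsSeminormalRing R) {S : Type u} [CommRing S] [IsReduced S]
    (f : R →+* S) (hf : Function.Injective f) {s : S} {a b : R} (ha : f a = s ^ 2) (hb : f b = s ^ 3) :
    s ∈ f.range := by
  obtain ⟨c, ⟨hc2, hc3⟩, -⟩ := h a b (hf (by rw [map_pow, map_pow, ha, hb]; ring))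
  have e2 : f c ^ 2 = s ^ 2 := by rw [← map_pow, ← hc2, ha]
  have e3 : f c ^ 3 = s ^ 3 := by rw [← map_pow, ← hc3, hb]
  refine ⟨c, sub_eq_zero.mp (IsNilpotent.eq_zero ⟨3, ?_⟩)⟩
  linear_combination 4 * e3 - 3 * s * e2 - 3 * f c * e2

variable {S : Type u} [CommRing S] [Algebra R S]

/-- The conductor, as an ideal of the extension. -/
def cond (R S : Type u) [CommRing R] [CommRing S] [Algebra R S] : Ideal S where
  carrier := {x | ∀ t, x * t ∈ (algebraMap R S).range}
  add_mem' := fun {a b} ha hb t => by rw [add_mul]; exact add_mem (ha t) (hb t)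
  zero_mem' := fun t => by rw [zero_mul]; exact zero_mem _
  smul_mem' := fun c x hx t => by
    show c * x * t ∈ _
    rw [mul_comm c x, mul_assoc]; exact hx _

theorem cond_pow_mem (h : HTop.IsSeminormalRing R) [IsReduced S]
    (hf : Function.Injective (algebraMap R S)) {x : S} {N : ℕ} (hx : x ^ N ∈ cond R S) :
    x ∈ cond R S := by
  induction N using Nat.strong_induction_on generalizing x with
  | _ N ih =>
    rcases Nat.lt_or_ge N 2 with hN | hN
    · interval_cases N
      · rw [pow_zero] at hx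
        intro t
        simpa using hx (x * t)
      · rwa [pow_one] at hx
    · refine ih 1 (by omega) (x := x) ?_
      rw [pow_one]
      have key : x ^ (N - 1) ∈ cond R S := fun t => by
        have h2 : x ^ ((N - 1) * 2) ∈ cond R S := Ideal.pow_mem_of_pow_mem _ hx (by omega)
        have h3 : x ^ ((N - 1) * 3) ∈ cond R S := Ideal.pow_mem_of_pow_mem _ hx (by omega)
        obtain ⟨a, ha⟩ := h2 (t ^ 2)
        obtain ⟨b, hb⟩ := h3 (t ^ 3)
        exact mem_range_of_sq_cube h _ hf (a := a) (b := b)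
          (by rw [ha, pow_mul, mul_pow]) (by rw [hb, pow_mul, mul_pow])
      exact ih (N - 1) (by omega) key

variable {M : Type u} [AddCommGroup M] [Module R[X] M] [Module.Invertible R[X] M]

set_option maxHeartbeats 1000000 in
/-- The extension localised at a minimal prime of the conductor, modulo the conductor. -/
theorem exists_localQuotient (h : HTop.IsSeminormalRing R) [IsReduced S]
    (hf : Function.Injective (algebraMap R S)) (p : Ideal R) [p.IsPrime]
    (hp : p ∈ ((cond R S).comap (algebraMap R S)).minimalPrimes) :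
    ∃ (T : Type u) (_ : CommRing T) (π : S →+* T), IsReduced T ∧
      (∀ x : S, π x = 0 → ∃ u ∉ p, algebraMap R S u * x ∈ cond R S) ∧
      (∀ u ∉ p, IsUnit (π (algebraMap R S u))) ∧ ∀ r ∈ p, π (algebraMap R S r) = 0 := by
  let Msub : Submonoid S := p.primeCompl.map (algebraMap R S)
  let J : Ideal (Localization Msub) := (cond R S).map (algebraMap S _)
  let T := Localization Msub ⧸ J
  let π : S →+* T := (Ideal.Quotient.mk J).comp (algebraMap S _)
  have hmem : ∀ x : S, π x = 0 → ∃ u ∉ p, algebraMap R S u * x ∈ cond R S := fun x hx => by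
    rw [RingHom.comp_apply, Ideal.Quotient.eq_zero_iff_mem,
      IsLocalization.algebraMap_mem_map_algebraMap_iff Msub] at hx
    obtain ⟨_, ⟨u, hu, rfl⟩, hux⟩ := hx
    exact ⟨u, hu, hux⟩
  have hunit : ∀ u ∉ p, IsUnit (π (algebraMap R S u)) := fun u hu =>
    (IsLocalization.map_units (Localization Msub) (⟨_, u, hu, rfl⟩ : Msub)).map (Ideal.Quotient.mk J)
  have : IsReduced T := by
    constructor
    rintro x ⟨N, hN⟩
    obtain ⟨x, rfl⟩ := Ideal.Quotient.mk_surjective x
    obtain ⟨⟨a, _, w, hw, rfl⟩, ha⟩ := IsLocalization.surj Msub x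
    have ha' : π a = Ideal.Quotient.mk J x * π (algebraMap R S w) :=
      ((congrArg (Ideal.Quotient.mk J) ha).symm.trans (map_mul _ _ _))
    obtain ⟨u, hu, hua⟩ := hmem (a ^ N) (by rw [map_pow, ha', mul_pow, hN, zero_mul])
    rcases Nat.eq_zero_or_pos N with hN0 | hN0
    · rw [hN0, pow_zero] at hN
      exact (mul_one _).symm.trans (by rw [hN, mul_zero])
    have h5 : algebraMap R S u * a ∈ cond R S := cond_pow_mem h hf (N := N) (by
      obtain ⟨m, rfl⟩ := Nat.exists_eq_add_of_le' hN0
      rw [show (algebraMap R S u * a) ^ (m + 1) =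
        algebraMap R S u ^ m * (algebraMap R S u * a ^ (m + 1)) by ring]
      exact Ideal.mul_mem_left _ _ hua)
    have h6 : π (algebraMap R S u * a) = 0 :=
      Ideal.Quotient.eq_zero_iff_mem.mpr (Ideal.mem_map_of_mem _ h5)
    rw [map_mul, (hunit u hu).mul_right_eq_zero, ha', (hunit w hw).mul_left_eq_zero] at h6
    exact h6
  have hkill : ∀ r ∈ p, π (algebraMap R S r) = 0 := fun r hr => by
    have h1 : algebraMap R (Localization.AtPrime p) r ∈
        (((cond R S).comap (algebraMap R S)).map (algebraMap R (Localization.AtPrime p))).radical := by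
      rw [IsLocalization.AtPrime.radical_map_of_mem_minimalPrimes (Localization.AtPrime p) p _ hp]
      exact Ideal.mem_map_of_mem _ hr
    obtain ⟨N, hN⟩ := h1
    rw [← map_pow, IsLocalization.algebraMap_mem_map_algebraMap_iff p.primeCompl] at hN
    obtain ⟨u, hu, huN⟩ := hN
    have h4 : π (algebraMap R S (u * r ^ N)) = 0 :=
      Ideal.Quotient.eq_zero_iff_mem.mpr (Ideal.mem_map_of_mem _ (Ideal.mem_comap.mp huN))
    rw [map_mul, map_mul, (hunit u hu).mul_right_eq_zero, map_pow, map_pow] at h4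
    exact IsNilpotent.eq_zero ⟨N, h4⟩
  exact ⟨T, inferInstance, π, inferInstance, hmem, hunit, hkill⟩

/-- Coefficients lie in `R` at a minimal prime of the conductor. -/
theorem coeff_mem_at_minimal (h : HTop.IsSeminormalRing R) [IsReduced S]
    (hf : Function.Injective (algebraMap R S)) {y0 : M} {ψ : Module.Dual R[X] M}
    (hψ : (ψ y0).coeff 0 = 1) {θ : M →ₛₗ[mapRingHom (algebraMap R S)] S[X]} (hθ : IsCoord y0 θ)
    (p : Ideal R) (hp : p ∈ ((cond R S).comap (algebraMap R S)).minimalPrimes) (y : M) (i : ℕ) :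
    ∃ u ∉ p, ∃ r : R, algebraMap R S u * (θ y).coeff i - algebraMap R S r ∈ cond R S := by
  have hprime : p.IsPrime := hp.1.1
  obtain ⟨T, _, π, _, hmem, hunit, hkill⟩ := exists_localQuotient h hf p hp
  let g : R ⧸ p →+* T := Ideal.Quotient.lift p (π.comp (algebraMap R S)) hkill
  have hg : ∀ z : nonZeroDivisors (R ⧸ p), IsUnit (g z) := by
    rintro ⟨z, hz⟩
    obtain ⟨u, rfl⟩ := Ideal.Quotient.mk_surjective z
    exact hunit u fun hu => nonZeroDivisors.ne_zero hz (Ideal.Quotient.eq_zero_iff_mem.mpr hu)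
  let k := FractionRing (R ⧸ p)
  let j : k →+* T := IsLocalization.lift hg
  let f : R →+* k := (algebraMap (R ⧸ p) k).comp (Ideal.Quotient.mk p)
  have hj : j.comp f = π.comp (algebraMap R S) := RingHom.ext fun r => IsLocalization.lift_eq hg _
  obtain ⟨θk, hθk⟩ := exists_coord_field f (M := M) hψ
  let θ1 : M →ₛₗ[mapRingHom (π.comp (algebraMap R S))] T[X] :=
    { toFun := fun y => (θ y).map π
      map_add' := fun a b => by rw [map_add, Polynomial.map_add]
      map_smul' := fun q a => by
        rw [LinearMap.map_smulₛₗ, smul_eq_mul, Polynomial.map_mul, coe_mapRingHom, Polynomial.map_map]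
        rfl }
  let θ2 : M →ₛₗ[mapRingHom (π.comp (algebraMap R S))] T[X] :=
    { toFun := fun y => (θk y).map j
      map_add' := fun a b => by rw [map_add, Polynomial.map_add]
      map_smul' := fun q a => by
        rw [LinearMap.map_smulₛₗ, smul_eq_mul, Polynomial.map_mul, coe_mapRingHom, Polynomial.map_map, hj]
        rfl }
  have hum : ∀ {A : Type u} [CommRing A] {e : R →+* A} (θ' : M →ₛₗ[mapRingHom e] A[X])
      (e' : A →+* T) (θ'' : M → T[X]), (∀ y, θ'' y = (θ' y).map e') →
      Ideal.span (Set.range θ') = ⊤ → Ideal.span (Set.range θ'') = ⊤ := by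
    intro A _ e θ' e' θ'' hy htop
    rw [show Set.range θ'' = (mapRingHom e') '' Set.range θ' by
        rw [← Set.range_comp]; exact congrArg Set.range (funext hy),
      ← Ideal.map_span, htop, Ideal.map_top]
  have h1c : IsCoord y0 θ1 := ⟨by
    show ((θ y0).map π).coeff 0 = 1
    rw [coeff_map, hθ.const, map_one], hum θ π θ1 (fun _ => rfl) hθ.unimodular⟩
  have h2c : IsCoord y0 θ2 := ⟨by
    show ((θk y0).map j).coeff 0 = 1
    rw [coeff_map, hθk.const, map_one], hum θk j θ2 (fun _ => rfl) hθk.unimodular⟩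
  have heq : π ((θ y).coeff i) = j ((θk y).coeff i) := by
    rw [← coeff_map, ← coeff_map]
    exact congrArg (fun q : T[X] => q.coeff i) (unique h1c h2c y)
  obtain ⟨⟨rbar, sbar⟩, hrs⟩ := IsLocalization.surj (nonZeroDivisors (R ⧸ p)) ((θk y).coeff i)
  obtain ⟨r, rfl⟩ := Ideal.Quotient.mk_surjective rbar
  obtain ⟨s, hs⟩ := Ideal.Quotient.mk_surjective (sbar : R ⧸ p)
  have hsp : s ∉ p := fun h' => nonZeroDivisors.ne_zero sbar.2
    (hs.symm.trans (Ideal.Quotient.eq_zero_iff_mem.mpr h'))
  have h3 : π (algebraMap R S s * (θ y).coeff i - algebraMap R S r) = 0 := by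
    have := congrArg j hrs
    rw [map_mul, IsLocalization.lift_eq, IsLocalization.lift_eq, ← hs, ← heq] at this
    rw [map_sub, map_mul, sub_eq_zero, mul_comm]
    exact this
  obtain ⟨u, hu, hmem'⟩ := hmem _ h3
  refine ⟨u * s, fun h' => (hprime.mem_or_mem h').elim hu hsp, u * r, ?_⟩
  convert hmem' using 1
  rw [map_mul, map_mul]; ring

/-- The coefficient extension is trivial. -/
theorem surjective_of_coord (h : HTop.IsSeminormalRing R) [IsReduced S] [Module.Finite R S]
    (hf : Function.Injective (algebraMap R S)) {y0 : M} {ψ : Module.Dual R[X] M}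
    (hψ : (ψ y0).coeff 0 = 1) {θ : M →ₛₗ[mapRingHom (algebraMap R S)] S[X]} (hθ : IsCoord y0 θ)
    (hgen : Algebra.adjoin R (Set.range fun q : M × ℕ => (θ q.1).coeff q.2) = ⊤) :
    Function.Surjective (algebraMap R S) := by
  classical
  set I : Ideal R := (cond R S).comap (algebraMap R S)
  suffices hI : I = ⊤ by
    intro σ
    have h1 : algebraMap R S 1 ∈ cond R S := Ideal.mem_comap.mp ((Ideal.eq_top_iff_one _).mp hI)
    simpa using h1 σ
  by_contra hI
  obtain ⟨p, hp⟩ := Ideal.nonempty_minimalPrimes hI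
  have hprime : p.IsPrime := hp.1.1
  have hone : (1 : R) ∉ p := fun h1 => hprime.ne_top ((Ideal.eq_top_iff_one _).mpr h1)
  have hloc : ∀ σ : S, ∃ u ∉ p, algebraMap R S u * σ ∈ (algebraMap R S).range := by
    intro σ
    have hσ : σ ∈ Algebra.adjoin R (Set.range fun q : M × ℕ => (θ q.1).coeff q.2) := hgen ▸ trivial
    refine Algebra.adjoin_induction ?_ (fun r => ⟨1, hone, by rw [map_one, one_mul]; exact ⟨r, rfl⟩⟩) ?_ ?_ hσ
    · rintro _ ⟨⟨y, i⟩, rfl⟩
      obtain ⟨u, hu, r, hr⟩ := coeff_mem_at_minimal h hf hψ hθ p hp y i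
      refine ⟨u, hu, ?_⟩
      have := add_mem (hr 1) (show algebraMap R S r ∈ (algebraMap R S).range from ⟨r, rfl⟩)
      simpa using this
    · rintro a b - - ⟨u, hu, hua⟩ ⟨v, hv, hvb⟩
      refine ⟨u * v, fun h' => (hprime.mem_or_mem h').elim hu hv, ?_⟩
      rw [map_mul, mul_add, mul_assoc, mul_assoc, mul_left_comm _ _ a]
      exact add_mem (mul_mem ⟨v, rfl⟩ hua) (mul_mem ⟨u, rfl⟩ hvb)
    · rintro a b - - ⟨u, hu, hua⟩ ⟨v, hv, hvb⟩
      refine ⟨u * v, fun h' => (hprime.mem_or_mem h').elim hu hv, ?_⟩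
      rw [map_mul, mul_mul_mul_comm]
      exact mul_mem hua hvb
  obtain ⟨G, hG⟩ := (Module.Finite.fg_top : (⊤ : Submodule R S).FG)
  choose u hu hux using hloc
  have hU : ∏ x ∈ G, u x ∉ p := fun h' => by
    obtain ⟨x, -, hx⟩ := hprime.prod_mem_iff.mp h'
    exact hu x hx
  refine hU (hp.1.2 (Ideal.mem_comap.mpr fun t => ?_))
  have ht : t ∈ Submodule.span R (G : Set S) := hG ▸ trivial
  refine Submodule.span_induction ?_ (by rw [mul_zero]; exact zero_mem _) ?_ ?_ ht
  · intro x hx
    rw [← Finset.prod_erase_mul G u hx, map_mul, mul_assoc]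
    exact mul_mem ⟨_, rfl⟩ (hux x)
  · rintro a b - - ha hb
    rw [mul_add]; exact add_mem ha hb
  · rintro r a - ha
    rw [Algebra.smul_def, mul_left_comm]
    exact mul_mem ⟨r, rfl⟩ ha

/-- Swan's theorem: over a seminormal ring an invertible `R[X]`-module which is trivial at `X = 0` is
trivial. -/
theorem free_of_seminormal (h : HTop.IsSeminormalRing R) (M : Type u) [AddCommGroup M] [Module R[X] M]
    [Module.Invertible R[X] M] (y0 : M) (ψ : Module.Dual R[X] M) (hψ : (ψ y0).coeff 0 = 1) :
    Module.Free R[X] M := by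
  have := isReduced_of_seminormal h
  obtain ⟨S, hfin, θ, hθ, hgen⟩ := exists_coord (M := M) hψ
  have : IsReduced S := isReduced_of_injective S.val Subtype.val_injective
  have hinjS : Function.Injective (algebraMap R S) := fun a b hab =>
    algebraMap_KK_injective (congrArg Subtype.val hab)
  have hs := surjective_of_coord h hinjS hψ hθ hgen
  let e : R ≃+* S := RingEquiv.ofBijective (algebraMap R S) ⟨hinjS, hs⟩
  have hcomp : ∀ q : R[X], (q.map (algebraMap R S)).map e.symm.toRingHom = q := fun q => by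
    rw [Polynomial.map_map]
    conv_rhs => rw [← Polynomial.map_id (p := q)]
    congr 1
    exact RingHom.ext fun r => e.symm_apply_apply r
  let g : M →ₗ[R[X]] R[X] :=
    { toFun := fun y => (θ y).map e.symm.toRingHom
      map_add' := fun a b => by rw [map_add, Polynomial.map_add]
      map_smul' := fun q a => by
        rw [LinearMap.map_smulₛₗ, smul_eq_mul, Polynomial.map_mul, coe_mapRingHom, hcomp]; rfl }
  have hg : Function.Surjective g := by
    rw [← LinearMap.range_eq_top, Ideal.eq_top_iff_one]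
    have h1 := Ideal.mem_map_of_mem (mapRingHom e.symm.toRingHom)
      (show (1 : S[X]) ∈ Ideal.span (Set.range θ) from hθ.unimodular.symm ▸ trivial)
    rw [map_one, Ideal.map_span] at h1
    refine Ideal.span_le.mpr ?_ h1
    rintro _ ⟨_, ⟨y, rfl⟩, rfl⟩
    exact ⟨y, rfl⟩
  exact Module.Free.of_equiv (LinearEquiv.ofBijective g (Module.Invertible.bijective_of_surjective hg)).symm

/-- Over a seminormal local ring every invertible `R[X]`-module is free. -/
theorem free_of_seminormal_local [IsLocalRing R] (h : HTop.IsSeminormalRing R) (M : Type u)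
    [AddCommGroup M] [Module R[X] M] [Module.Invertible R[X] M] : Module.Free R[X] M := by
  let I : Ideal R[X] := RingHom.ker (constantCoeff : R[X] →+* R)
  let e : R[X] ⧸ I ≃+* R :=
    RingHom.quotientKerEquivOfSurjective (f := (constantCoeff : R[X] →+* R)) fun r => ⟨C r, by simp⟩
  have : IsLocalRing (R[X] ⧸ I) := e.symm.isLocalRing
  have : Module.Free (R[X] ⧸ I) ((R[X] ⧸ I) ⊗[R[X]] M) := Module.free_of_flat_of_isLocalRing
  obtain ⟨φ⟩ := Module.Invertible.free_iff_linearEquiv.mp this
  obtain ⟨y0, hy0⟩ := TensorProduct.mk_surjective R[X] M (R[X] ⧸ I) Ideal.Quotient.mk_surjective (φ.symm 1)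
  obtain ⟨ψ, hψ⟩ := Module.projective_lifting_property (Algebra.linearMap R[X] (R[X] ⧸ I))
    ((φ.toLinearMap.restrictScalars R[X]) ∘ₗ TensorProduct.mk R[X] (R[X] ⧸ I) M 1) Ideal.Quotient.mk_surjective
  refine free_of_seminormal h M y0 ψ ?_
  have h1 : Ideal.Quotient.mk I (ψ y0) = Ideal.Quotient.mk I 1 := by
    refine (LinearMap.congr_fun hψ y0).trans ?_
    show φ ((1 : R[X] ⧸ I) ⊗ₜ[R[X]] y0) = _
    rw [show (1 : R[X] ⧸ I) ⊗ₜ[R[X]] y0 = φ.symm 1 from hy0, φ.apply_symm_apply, map_one]
  have h2 := Ideal.Quotient.eq.mp h1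
  simpa [I, RingHom.mem_ker, Ideal.mem_span_singleton, X_dvd_iff, sub_eq_zero] using h2

end Groth.Agent.H24.Swan
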